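import Cfsg.Agent.Helper16.BT.Lib

/-!
# S0997 (Brauer–Tuan): the two block lemmas

`Y_subset_principal2`: the two exceptional characters lie in the principal `2`-block.
`block_contra`: a nonprincipal member of `X` of `2`-power degree is impossible when the `2`-part
of `|G|` is large.
-/

set_option autoImplicit false

namespace Cfsg.Agent.Helper16.BT

open Cfsg Cfsg.Agent.Helper16 Cfsg.Agent.Helper16.DefOne Cfsg.Agent.Helper82.DefOne
  Cfsg.Agent.Helper77.DefOne Cfsg.Agent.Helper16.Brauer43 Cfsg.Agent.Helper54.BT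
open scoped ComplexConjugate

universe u

variable {G : Type u} [Group G] [Fintype G] {p : ℕ} [Fact p.Prime]
  (P : Sylow p G) [Fintype (P : Subgroup G)] (D : L0Data P)

theorem isPBlock_principal (M : Ideal AlgInt) : IsPBlock M (principalBlock M G) :=
  ⟨Helper79.principalIrr G, rfl⟩

theorem principal_mem_principalBlock (M : Ideal AlgInt) (hM : M.IsPrime) :
    Helper79.principalIrr G ∈ principalBlock M G :=
  Helper78.sameBlock_refl hM _

theorem charDegree_principal :
    charDegree ((Helper79.principalIrr G : IrrCharacter G) : G → ℂ) = 1 := by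
  show charDegree (fun _ : G => (1 : ℂ)) = 1
  simp [charDegree]

open Classical in
/-- the signed sum over `X ∩ B` is odd when `B` contains the principal character and the other
members of `X` have even degree -/
theorem odd_sum_X (hone : Helper79.principalIrr G ∈ D.X ∧ D.ε (Helper79.principalIrr G) = 1)
    (hdiv : ∀ χ ∈ D.X, χ ≠ Helper79.principalIrr G → 2 ∣ charDegree (χ : G → ℂ))
    (B : Set (IrrCharacter G)) (hB : Helper79.principalIrr G ∈ B) :
    ¬ (2 : ℤ) ∣ ∑ᶠ χ ∈ D.X ∩ B, D.ε χ * (charDegree (χ : G → ℂ) : ℤ) := by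
  haveI : Finite (IrrCharacter G) := Helper79.irr_finite'
  have hfin : (D.X ∩ B).Finite := Set.toFinite _
  rw [finsum_mem_eq_finite_toFinset_sum _ hfin,
    ← Finset.add_sum_erase _ _ (hfin.mem_toFinset.mpr ⟨hone.1, hB⟩), hone.2, charDegree_principal]
  have h3 : (2 : ℤ) ∣ ∑ χ ∈ hfin.toFinset.erase (Helper79.principalIrr G),
      D.ε χ * (charDegree (χ : G → ℂ) : ℤ) := by
    apply Finset.dvd_sum
    intro χ hχ
    rw [Finset.mem_erase, Set.Finite.mem_toFinset] at hχ
    have : (2 : ℤ) ∣ (charDegree (χ : G → ℂ) : ℤ) := by exact_mod_cast hdiv χ hχ.2.1 hχ.1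
    exact Dvd.dvd.mul_left this _
  intro h
  have h4 : (2 : ℤ) ∣ (1 : ℤ) * ((1 : ℕ) : ℤ) := (Int.dvd_add_left h3).mp h
  norm_num at h4

/-- **the exceptional characters lie in the principal `2`-block** (`t = 2`) -/
theorem Y_subset_principal2 (hP : Nat.card P = p) (hC : cen P = (P : Subgroup G))
    (hp2 : p ≠ 2) (b : ℕ) (hb : (Nat.card G).factorization 2 = b)
    (Mp M₂ : Ideal AlgInt) (hMp : IsPModular p Mp) (hM₂ : IsPModular 2 M₂)
    (hone : Helper79.principalIrr G ∈ D.X ∧ D.ε (Helper79.principalIrr G) = 1)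
    (hdiv : ∀ χ ∈ D.X, χ ≠ Helper79.principalIrr G → 2 ∣ charDegree (χ : G → ℂ))
    (f : ℕ) (hY : ∀ ψ ∈ D.Y, charDegree (ψ : G → ℂ) = f) (hf : ¬ 2 ∣ f)
    (a e' : ℕ) (he : (cen P).relIndex (nor P) = 2 ^ a * e') (he' : ¬ 2 ∣ e')
    (hpe : p = 2 * (cen P).relIndex (nor P) + 1) (hab : a + 2 ≤ b) :
    D.Y ⊆ principalBlock M₂ G := by
  classical
  haveI : Finite (IrrCharacter G) := Helper79.irr_finite'
  haveI : Fact (Nat.Prime 2) := ⟨Nat.prime_two⟩
  have hM₂p : M₂.IsPrime := Helper78.isPrime_of_isPModular hM₂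
  have hno : ∀ g : G, orderOf g ≠ p * 2 := no_order_mul' P hP hC 2 Nat.prime_two
  obtain ⟨w, hw⟩ := Helper63.BT.block_sum P D hP hC 2 hp2 hno b hb Mp M₂ hMp hM₂
    (principalBlock Mp G) (principalBlock M₂ G) (isPBlock_principal Mp) (isPBlock_principal M₂)
  rw [block_sum_split P D hP hC Mp hMp (principalBlock M₂ G) f hY, Nat.cast_ofNat] at hw
  set A := ∑ᶠ χ ∈ D.X ∩ principalBlock M₂ G, D.ε χ * (charDegree (χ : G → ℂ) : ℤ) with hA
  set k := Nat.card ↥(D.Y ∩ principalBlock M₂ G) with hk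
  have hAodd : ¬ (2 : ℤ) ∣ A :=
    odd_sum_X P D hone hdiv _ (principal_mem_principalBlock M₂ hM₂p)
  -- `|Y| = 2`
  have hcY : Nat.card D.Y = 2 := by
    rw [D.hcY]
    have hepos : 0 < (cen P).relIndex (nor P) := relIndex_pos P
    have h1 : p - 1 = 2 * (cen P).relIndex (nor P) := by omega
    rw [h1, Nat.mul_div_cancel _ hepos]
  have hkle : k ≤ 2 := by
    rw [← hcY]
    exact Nat.card_mono (Set.toFinite _) Set.inter_subset_left
  have hpZ : ((p : ℤ) - 1) = 2 * ((2 : ℤ) ^ a * (e' : ℤ)) := by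
    have : (p : ℤ) = 2 * (((cen P).relIndex (nor P) : ℕ) : ℤ) + 1 := by exact_mod_cast hpe
    rw [this, he]
    push_cast
    ring
  have heZ : (((cen P).relIndex (nor P) : ℕ) : ℤ) = (2 : ℤ) ^ a * (e' : ℤ) := by
    rw [he]; push_cast; ring
  have hk2 : k = 2 := by
    refine k_eq_two a b k (e' : ℤ) (f : ℤ) A (-D.δ) w ?_ ?_ hAodd ?_ hab hkle ?_
    · exact_mod_cast he'
    · exact_mod_cast hf
    · rcases D.hδ with h | h <;> rw [h] <;> simp
    · rw [← hw, hpZ, heZ]
  -- `Y ∩ B₀ = Y`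
  intro ψ hψ
  have hsub : D.Y ∩ principalBlock M₂ G = D.Y := by
    apply Set.eq_of_subset_of_ncard_le Set.inter_subset_left _ (Set.toFinite _)
    rw [← Nat.card_coe_set_eq, ← Nat.card_coe_set_eq, hcY, ← hk, hk2]
  rw [← hsub] at hψ
  exact hψ.2

open Classical in
/-- **a nonprincipal member of `X` of `2`-power degree is impossible** when all signed degrees
are of the two types and the `2`-part of `|G|` is `T^J` -/
theorem block_contra [IsSimpleGroup G] (hperf : commutator G = ⊤) (hP : Nat.card P = p)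
    (hC : cen P = (P : Subgroup G)) (hp2 : p ≠ 2) (c J : ℕ)
    (hb : (Nat.card G).factorization 2 = c * J)
    (Mp M₂ : Ideal AlgInt) (hMp : IsPModular p Mp) (hM₂ : IsPModular 2 M₂)
    (hYB : D.Y ⊆ principalBlock M₂ G) (β : ℤ)
    (hβ : β = ((2 ^ c : ℕ) : ℤ) ∨ β = -((2 ^ c : ℕ) : ℤ))
    (htype : ∀ χ ∈ D.X, χ ≠ Helper79.principalIrr G → ∃ j : ℕ, j < J ∧
      (D.ε χ * (charDegree (χ : G → ℂ) : ℤ) = β ^ j ∨
        D.ε χ * (charDegree (χ : G → ℂ) : ℤ) = β ^ j * (2 - β)))
    (hone : Helper79.principalIrr G ∈ D.X)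
    (hT : 2 * (cen P).relIndex (nor P) < 2 ^ c + 2)
    (χa : IrrCharacter G) (hχa : χa ∈ D.X) (k : ℕ) (hk : 1 ≤ k)
    (hdeg : charDegree (χa : G → ℂ) = 2 ^ k) : False := by
  haveI : Finite (IrrCharacter G) := Helper79.irr_finite'
  haveI : Fact (Nat.Prime 2) := ⟨Nat.prime_two⟩
  have hM₂p : M₂.IsPrime := Helper78.isPrime_of_isPModular hM₂
  by_cases hpr : Helper79.principalIrr G ∈ blockOf M₂ (χa : G → ℂ)
  · exact Helper70.BT.final_contra hperf k hk χa hdeg M₂ hM₂ hpr
  · set B := blockOf M₂ (χa : G → ℂ) with hB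
    have hBblock : IsPBlock M₂ B := ⟨χa, rfl⟩
    have hYB' : D.Y ∩ B = ∅ := by
      rw [Set.eq_empty_iff_forall_notMem]
      rintro ψ ⟨h1, h2⟩
      exact hpr (principal_mem_blockOf M₂ hM₂p χa ψ (hYB h1) h2)
    have hno : ∀ g : G, orderOf g ≠ p * 2 := no_order_mul' P hP hC 2 Nat.prime_two
    have hdvd := block_X_dvd P D hP hC 2 hp2 hno (c * J) hb Mp M₂ hMp hM₂ B hBblock hYB'
    have hfin : (D.X ∩ B).Finite := Set.toFinite _
    rw [finsum_mem_eq_finite_toFinset_sum _ hfin] at hdvd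
    have hχaS : χa ∈ hfin.toFinset := by
      rw [Set.Finite.mem_toFinset]
      exact ⟨hχa, Helper78.sameBlock_refl hM₂p _⟩
    -- the size of `X ∩ B`
    have hXfin : D.X.Finite := Set.toFinite _
    have hsub : hfin.toFinset ⊆ hXfin.toFinset.erase (Helper79.principalIrr G) := by
      intro χ hχ
      rw [Set.Finite.mem_toFinset] at hχ
      rw [Finset.mem_erase, Set.Finite.mem_toFinset]
      refine ⟨?_, hχ.1⟩
      intro h
      rw [h] at hχ
      exact hpr hχ.2
    have hcardX : hXfin.toFinset.card = (cen P).relIndex (nor P) := by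
      rw [← D.hcX, ← Set.ncard_eq_toFinset_card _ hXfin]
      exact (Nat.card_coe_set_eq _)
    have hcardS : hfin.toFinset.card + 1 ≤ (cen P).relIndex (nor P) := by
      have h1 := Finset.card_le_card hsub
      rw [Finset.card_erase_of_mem (hXfin.mem_toFinset.mpr hone), hcardX] at h1
      have hepos : 0 < (cen P).relIndex (nor P) := relIndex_pos P
      omega
    have hempty := digit_vanish hfin.toFinset
      (fun χ => D.ε χ * (charDegree (χ : G → ℂ) : ℤ)) (2 ^ c) β hβ (by omega) J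
      (by
        intro χ hχ
        have hχ' := hsub hχ
        rw [Finset.mem_erase, Set.Finite.mem_toFinset] at hχ'
        exact htype χ hχ'.2 hχ'.1)
      (by
        have : (((2 ^ c : ℕ) : ℤ)) ^ J = ((2 : ℕ) : ℤ) ^ (c * J) := by
          push_cast
          rw [pow_mul]
        rw [this]
        exact hdvd)
    rw [hempty] at hχaS
    exact absurd hχaS (Finset.notMem_empty _)

end Cfsg.Agent.Helper16.BT
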