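import Cfsg.Agent.Helper16.BT.Blk

/-!
# S0997 (Brauer–Tuan): case `δ = +1`
-/

set_option autoImplicit false

namespace Cfsg.Agent.Helper16.BT

open Cfsg Cfsg.Agent.Helper16 Cfsg.Agent.Helper16.DefOne Cfsg.Agent.Helper82.DefOne
  Cfsg.Agent.Helper77.DefOne Cfsg.Agent.Helper16.Brauer43 Cfsg.Agent.Helper54.BT
open scoped ComplexConjugate

universe u

/-- the exponent of `2` in `2^k r`, `r` odd -/
theorem factorization_two_pow_mul_odd (k r : ℕ) (hr : ¬ 2 ∣ r) :
    (2 ^ k * r).factorization 2 = k := by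
  have hr0 : r ≠ 0 := by
    rintro rfl
    exact hr (dvd_zero 2)
  rw [Nat.factorization_mul (pow_ne_zero _ (by norm_num)) hr0, Nat.factorization_pow,
    Nat.prime_two.factorization]
  simp [Nat.factorization_eq_zero_of_not_dvd hr]

variable {G : Type u} [Group G] [Fintype G] {p : ℕ} [Fact p.Prime]
  (P : Sylow p G) [Fintype (P : Subgroup G)] (D : L0Data P)

/-- **case `δ = +1`** -/
theorem case_I [IsSimpleGroup G] (hperf : commutator G = ⊤) (hP : Nat.card P = p)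
    (hC : cen P = (P : Subgroup G)) (q b : ℕ) (hq : q.Prime)
    (hes : (cen P).relIndex (nor P) * (nor P).index = q ^ b * (cen P).relIndex (nor P))
    (hone : Helper79.principalIrr G ∈ D.X ∧ D.ε (Helper79.principalIrr G) = 1)
    (hdiv : ∀ χ ∈ D.X, χ ≠ Helper79.principalIrr G → q ∣ charDegree (χ : G → ℂ))
    (hδ : D.δ = 1) (hY : ∀ ψ ∈ D.Y, charDegree (ψ : G → ℂ) = (cen P).relIndex (nor P))
    (hpe : p = 2 * (cen P).relIndex (nor P) + 1) (he2 : 2 ≤ (cen P).relIndex (nor P))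
    (hmodq : (((cen P).relIndex (nor P) : ℕ) : ℤ) ≡ 1 [ZMOD q]) :
    Nat.card G < p ^ 3 ∧ ∃ m : ℕ, p = 2 ^ m + 1 ∨ p = 2 ^ m - 1 := by
  classical
  have hp : p.Prime := Fact.out
  set e := (cen P).relIndex (nor P) with he
  set s := (nor P).index with hs
  have hcm : Nat.card G = s * (e * p) := card_eq_mul P hP hC
  have hepos : 0 < e := by omega
  -- the character of degree `p + 1`
  obtain ⟨χ₀, hχ₀X, hχ₀ε, hχ₀d⟩ := Helper89.BT.delta_plus P D hP hC hperf e hpe he2 hδ rfl hY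
  have hdvd0 := GL.deg_dvd_X P D hP hC χ₀ hχ₀X
  rw [hχ₀d, ← he, ← hs, hes, mul_comm] at hdvd0
  obtain ⟨hq2, c, hc, hpc⟩ := arith_I p e q b hp hq hpe he2 hmodq hdvd0
  subst hq2
  -- `e` is odd, `s = 2^b`
  have heodd : ¬ 2 ∣ e := by
    intro h
    have h1 : ((2 : ℕ) : ℤ) ∣ (e : ℤ) := by exact_mod_cast h
    have h2 := (Int.modEq_iff_dvd.mp hmodq)
    have h3 : ((2 : ℕ) : ℤ) ∣ (e : ℤ) + (1 - (e : ℤ)) := dvd_add h1 h2
    norm_num at h3
  have hs2 : s = 2 ^ b := by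
    have h1 : e * s = e * 2 ^ b := by rw [hes]; ring
    exact Nat.eq_of_mul_eq_mul_left hepos h1
  have hpc' : p = 2 ^ c - 1 := by omega
  have hec : e = 2 ^ (c - 1) - 1 := by
    have h1 : 2 ^ c = 2 * 2 ^ (c - 1) := by
      rw [← pow_succ']
      congr 1
      omega
    omega
  -- `c ∣ b`
  have hsmod : s ≡ 1 [MOD p] := index_nor_modEq P hP
  rw [hs2, hpc'] at hsmod
  obtain ⟨J, hJ⟩ := dvd_of_two_pow_modEq_I c b (by omega) hsmod
  -- `c ≤ b`
  have hcb : c ≤ b := by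
    have h1 : 2 ^ c ∣ e * 2 ^ b := by rw [← hpc]; exact hdvd0
    have hcop : Nat.Coprime (2 ^ c) e :=
      Nat.Coprime.pow_left c ((Nat.Prime.coprime_iff_not_dvd Nat.prime_two).mpr heodd)
    have h2 : 2 ^ c ∣ 2 ^ b := hcop.dvd_of_dvd_mul_left h1
    exact (Nat.pow_dvd_pow_iff_le_right (by norm_num)).mp h2
  have hJ1 : 1 ≤ J := by
    rcases Nat.eq_zero_or_pos J with h | h
    · rw [h, mul_zero] at hJ
      omega
    · exact h
  rcases Nat.lt_or_ge J 2 with hJlt | hJ2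
  · -- `b = c`
    have hJe : J = 1 := by omega
    rw [hJe, mul_one] at hJ
    refine ⟨?_, c, Or.inr hpc'⟩
    rw [hcm, hs2, hJ, ← hpc]
    have h1 : 2 * ((p + 1) * e) < 2 * (p * p) := by
      have : 2 * e = p - 1 := by omega
      have h2 : 2 * ((p + 1) * e) = (p + 1) * (2 * e) := by ring
      rw [h2, this]
      have hp1 : 1 ≤ p := hp.one_lt.le
      have : (p + 1) * (p - 1) = p * p - 1 := by
        zify [hp1, Nat.one_le_iff_ne_zero.mpr (Nat.mul_ne_zero hp.ne_zero hp.ne_zero)]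
        ring
      rw [this]
      have : 1 ≤ p * p := Nat.one_le_iff_ne_zero.mpr (Nat.mul_ne_zero hp.ne_zero hp.ne_zero)
      omega
    calc (p + 1) * (e * p) = ((p + 1) * e) * p := by ring
      _ < (p * p) * p := by
          apply Nat.mul_lt_mul_of_pos_right (by omega) hp.pos
      _ = p ^ 3 := by ring
  · -- `b ≥ 2c`: contradiction
    exfalso
    have hp2 : p ≠ 2 := by omega
    have hb2 : (Nat.card G).factorization 2 = c * J := by
      rw [hcm, hs2, hJ]
      apply factorization_two_pow_mul_odd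
      intro h
      rcases (Nat.Prime.dvd_mul Nat.prime_two).mp h with h1 | h1
      · exact heodd h1
      · have := (Nat.prime_dvd_prime_iff_eq Nat.prime_two hp).mp h1
        omega
    obtain ⟨Mp, hMp⟩ := Helper74.exists_isPModular p hp
    obtain ⟨M₂, hM₂⟩ := Helper74.exists_isPModular 2 Nat.prime_two
    have hYB : D.Y ⊆ principalBlock M₂ G := by
      refine Y_subset_principal2 P D hP hC hp2 (c * J) hb2 Mp M₂ hMp hM₂ hone hdiv e hY heodd
        0 e ?_ heodd hpe ?_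
      · rw [pow_zero, one_mul]
      · have : 2 * c ≤ c * J := by
          rw [mul_comm]
          exact Nat.mul_le_mul_left c hJ2
        omega
    have hsJ : s = 2 ^ (c * J) := by rw [hs2, hJ]
    have htype : ∀ χ ∈ D.X, χ ≠ Helper79.principalIrr G → ∃ j : ℕ, j < J ∧
        (D.ε χ * (charDegree (χ : G → ℂ) : ℤ) = (((2 ^ c : ℕ) : ℤ)) ^ j ∨
          D.ε χ * (charDegree (χ : G → ℂ) : ℤ) =
            (((2 ^ c : ℕ) : ℤ)) ^ j * (2 - ((2 ^ c : ℕ) : ℤ))) := by
      intro χ hχ _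
      have hd := GL.deg_dvd_X P D hP hC χ hχ
      rw [← he, ← hs, hsJ, hec] at hd
      have hmod := GL.deg_modEq_X P D hP χ hχ
      have hsq := deg_sq_le (G := G) χ
      rw [hcm, hsJ] at hsq
      have hsq' : charDegree (χ : G → ℂ) * charDegree (χ : G → ℂ) ≤
          2 ^ (c * J) * ((2 ^ (c - 1) - 1) * (2 ^ c - 1)) := by
        rw [← hec, ← hpc']
        exact hsq
      have hmod' : (charDegree (χ : G → ℂ) : ℤ) ≡ D.ε χ [ZMOD ((2 ^ c - 1 : ℕ) : ℤ)] := by
        rw [← hpc']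
        exact hmod
      obtain ⟨j, hj, h⟩ := types_I c J _ (D.ε χ) hc hJ2 (D.hε χ) hd hmod' hsq'
      refine ⟨j, hj, ?_⟩
      push_cast
      exact h
    refine block_contra P D hperf hP hC hp2 c J hb2 Mp M₂ hMp hM₂ hYB (((2 ^ c : ℕ) : ℤ))
      (Or.inl rfl) htype hone.1 ?_ χ₀ hχ₀X c (by omega) ?_
    · rw [← he]
      omega
    · rw [hχ₀d, hpc]

end Cfsg.Agent.Helper16.BT
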