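import Cfsg.Agent.Helper16.BT.CaseI

/-!
# S0997 (Brauer–Tuan): case `δ = -1`, `e = 2`
-/

set_option autoImplicit false

namespace Cfsg.Agent.Helper16.BT

open Cfsg Cfsg.Agent.Helper16 Cfsg.Agent.Helper16.DefOne Cfsg.Agent.Helper82.DefOne
  Cfsg.Agent.Helper77.DefOne Cfsg.Agent.Helper16.Brauer43 Cfsg.Agent.Helper54.BT
open scoped ComplexConjugate

universe u

variable {G : Type u} [Group G] [Fintype G] {p : ℕ} [Fact p.Prime]
  (P : Sylow p G) [Fintype (P : Subgroup G)] (D : L0Data P)

/-- **case `δ = -1`, `e = 2`** -/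
theorem case_II [IsSimpleGroup G] (hperf : commutator G = ⊤) (hP : Nat.card P = p)
    (hC : cen P = (P : Subgroup G)) (b f : ℕ)
    (hes : (cen P).relIndex (nor P) * (nor P).index = 2 ^ b * f)
    (hone : Helper79.principalIrr G ∈ D.X ∧ D.ε (Helper79.principalIrr G) = 1)
    (hδ : D.δ = -1) (hY : ∀ ψ ∈ D.Y, charDegree (ψ : G → ℂ) = f)
    (hef : f + (cen P).relIndex (nor P) = p) (he2 : (cen P).relIndex (nor P) = 2)
    (ht : 2 * (cen P).relIndex (nor P) ≤ p - 1) :
    Nat.card G < p ^ 3 ∧ ∃ m : ℕ, p = 2 ^ m + 1 ∨ p = 2 ^ m - 1 := by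
  classical
  haveI : Finite (IrrCharacter G) := Helper79.irr_finite'
  have hp : p.Prime := Fact.out
  set s := (nor P).index with hs
  have hcm : Nat.card G = s * ((cen P).relIndex (nor P) * p) := card_eq_mul P hP hC
  rw [he2] at hes hef ht hcm
  have hp5 : 5 ≤ p := by omega
  have hp2 : p ≠ 2 := by omega
  have hfp : f = p - 2 := by omega
  -- `X = {1, χ}`
  have hXfin : D.X.Finite := Set.toFinite _
  have hcardX : hXfin.toFinset.card = 2 := by
    rw [← he2, ← D.hcX, ← Set.ncard_eq_toFinset_card _ hXfin]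
    exact (Nat.card_coe_set_eq _)
  have hcard1 : (hXfin.toFinset.erase (Helper79.principalIrr G)).card = 1 := by
    rw [Finset.card_erase_of_mem (hXfin.mem_toFinset.mpr hone.1), hcardX]
  obtain ⟨χ, hχ⟩ := Finset.card_eq_one.mp hcard1
  have hχmem : χ ∈ hXfin.toFinset.erase (Helper79.principalIrr G) := by
    rw [hχ]; exact Finset.mem_singleton_self χ
  rw [Finset.mem_erase, Set.Finite.mem_toFinset] at hχmem
  obtain ⟨hχne, hχX⟩ := hχmem
  -- the degree equation
  obtain ⟨ψ₀, hψ₀⟩ := Helper47.B43.Y_nonempty47 P D hP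
  have hrel := GL.degree_equation P D ψ₀ hψ₀
  rw [finsum_mem_eq_finite_toFinset_sum _ hXfin,
    ← Finset.add_sum_erase _ _ (hXfin.mem_toFinset.mpr hone.1), hχ, Finset.sum_singleton,
    hone.2, charDegree_principal, hδ, hY ψ₀ hψ₀] at hrel
  have hdpos : 0 < charDegree (χ : G → ℂ) := Helper79.irr_charDegree_pos χ
  have hεχ : D.ε χ = -1 := by
    rcases D.hε χ with h | h
    · rw [h] at hrel
      push_cast at hrel
      omega
    · exact h
  have hdχ : charDegree (χ : G → ℂ) = p - 1 := by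
    rw [hεχ] at hrel
    push_cast at hrel
    omega
  -- `p - 1` is a power of two
  have hdvd := GL.deg_dvd_X P D hP hC χ hχX
  rw [he2, ← hs, hes, hdχ] at hdvd
  have hcop : Nat.Coprime (p - 1) f := by
    rw [hfp]
    have h1 : p - 1 = (p - 2) + 1 := by omega
    rw [h1]
    simp
  have hdvd2 : p - 1 ∣ 2 ^ b := hcop.dvd_of_dvd_mul_right hdvd
  obtain ⟨m, hmb, hm⟩ := (Nat.dvd_prime_pow Nat.prime_two).mp hdvd2
  have hm2 : 2 ≤ m := by
    by_contra h
    have : m = 0 ∨ m = 1 := by omega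
    rcases this with h | h <;> rw [h] at hm <;> omega
  have hpm : p = 2 ^ m + 1 := by omega
  -- the exponent of two
  have hfodd : ¬ 2 ∣ f := by
    rw [hfp]
    intro h
    have h1 : 2 ∣ 2 ^ m := dvd_pow_self 2 (by omega)
    omega
  have hG2 : Nat.card G = 2 ^ b * (f * p) := by
    rw [hcm]
    calc s * (2 * p) = (2 * s) * p := by ring
      _ = 2 ^ b * f * p := by rw [hes]
      _ = 2 ^ b * (f * p) := by ring
  have hb2 : (Nat.card G).factorization 2 = b := by
    rw [hG2]
    apply factorization_two_pow_mul_odd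
    intro h
    rcases (Nat.Prime.dvd_mul Nat.prime_two).mp h with h1 | h1
    · exact hfodd h1
    · have := (Nat.prime_dvd_prime_iff_eq Nat.prime_two hp).mp h1
      omega
  obtain ⟨Mp, hMp⟩ := Helper74.exists_isPModular p hp
  obtain ⟨M₂, hM₂⟩ := Helper74.exists_isPModular 2 Nat.prime_two
  haveI : Fact (Nat.Prime 2) := ⟨Nat.prime_two⟩
  have hM₂p : M₂.IsPrime := Helper78.isPrime_of_isPModular hM₂
  -- `χ` is not in the principal `2`-block
  have hχB : χ ∉ principalBlock M₂ G := by
    intro h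
    have h1 : Helper79.principalIrr G ∈ blockOf M₂ (χ : G → ℂ) :=
      Helper78.sameBlock_symm (M := M₂) h
    exact Helper70.BT.final_contra hperf m (by omega) χ (by rw [hdχ, hpm]; simp) M₂ hM₂ h1
  -- the block sum
  have hno : ∀ g : G, orderOf g ≠ p * 2 := no_order_mul' P hP hC 2 Nat.prime_two
  obtain ⟨w, hw⟩ := Helper63.BT.block_sum P D hP hC 2 hp2 hno b hb2 Mp M₂ hMp hM₂
    (principalBlock Mp G) (principalBlock M₂ G) (isPBlock_principal Mp) (isPBlock_principal M₂)
  rw [block_sum_split P D hP hC Mp hMp (principalBlock M₂ G) f hY, Nat.cast_ofNat] at hw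
  have hXB : D.X ∩ principalBlock M₂ G = {Helper79.principalIrr G} := by
    ext ψ
    rw [Set.mem_singleton_iff]
    constructor
    · rintro ⟨h1, h2⟩
      by_contra hne
      have h3 : ψ ∈ hXfin.toFinset.erase (Helper79.principalIrr G) := by
        rw [Finset.mem_erase, Set.Finite.mem_toFinset]
        exact ⟨hne, h1⟩
      rw [hχ, Finset.mem_singleton] at h3
      rw [h3] at h2
      exact hχB h2
    · rintro rfl
      exact ⟨hone.1, principal_mem_principalBlock M₂ hM₂p⟩
  rw [hXB, finsum_mem_singleton, hone.2, charDegree_principal, hδ, he2] at hw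
  set k := Nat.card ↥(D.Y ∩ principalBlock M₂ G) with hk
  have hkle : k ≤ 2 ^ (m - 1) := by
    have h1 : k ≤ Nat.card D.Y := Nat.card_mono (Set.toFinite _) Set.inter_subset_left
    rw [D.hcY, he2] at h1
    have h2 : (p - 1) / 2 = 2 ^ (m - 1) := by
      have : p - 1 = 2 * 2 ^ (m - 1) := by
        rw [← pow_succ']
        have : m - 1 + 1 = m := by omega
        rw [this]
        omega
      rw [this, Nat.mul_div_cancel_left _ (by norm_num)]
    omega
  have hble : b ≤ 2 * m := by
    refine arith_II m b k w hm2 hkle ?_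
    rw [← hw]
    have h1 : (p : ℤ) = 2 ^ m + 1 := by exact_mod_cast hpm
    have h2 : (f : ℤ) = 2 ^ m - 1 := by
      have : (f : ℤ) = (p : ℤ) - 2 := by
        have h3 : f + 2 = p := hef
        rw [← h3]
        push_cast
        ring
      rw [this, h1]
      ring
    rw [h1, h2]
    push_cast
    ring
  -- `2^b ≡ -1 (mod p)`
  have hsmod : s ≡ 1 [MOD p] := index_nor_modEq P hP
  have hdvdp : 2 ^ m + 1 ∣ 2 ^ b + 1 := by
    rw [← hpm]
    have h1 : (p : ℤ) ∣ (s : ℤ) - 1 := by
      have := (Nat.modEq_iff_dvd.mp hsmod.symm)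
      simpa using this
    have h2 : (2 : ℤ) * (s : ℤ) = 2 ^ b * (f : ℤ) := by exact_mod_cast hes
    have h3 : (f : ℤ) = (p : ℤ) - 2 := by
      have h3 : f + 2 = p := hef
      rw [← h3]
      push_cast
      ring
    have h4 : (p : ℤ) ∣ 2 * ((2 : ℤ) ^ b + 1) := by
      have h5 : 2 * ((2 : ℤ) ^ b + 1) = (p : ℤ) * 2 ^ b - 2 * ((s : ℤ) - 1) := by
        rw [h3] at h2
        linear_combination h2
      rw [h5]
      exact dvd_sub (dvd_mul_right _ _) (Dvd.dvd.mul_left h1 _)
    have h6 : (p : ℤ) ∣ (2 : ℤ) ^ b + 1 := by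
      have hcop2 : IsCoprime (p : ℤ) (2 : ℤ) := by
        have : Nat.Coprime p 2 := by
          rw [Nat.coprime_comm]
          exact (Nat.Prime.coprime_iff_not_dvd Nat.prime_two).mpr (fun h =>
            hp2 ((Nat.prime_dvd_prime_iff_eq Nat.prime_two hp).mp h).symm)
        exact_mod_cast Nat.isCoprime_iff_coprime.mpr this
      exact hcop2.dvd_of_dvd_mul_left h4
    exact_mod_cast h6
  have hbm : b = m := eq_of_dvd_two_pow_add_one m b (by omega) hble hdvdp
  refine ⟨?_, m, Or.inl hpm⟩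
  rw [hG2, hbm, hfp]
  have h1 : 2 ^ m = p - 1 := by omega
  rw [h1]
  have h2 : (p - 1) * ((p - 2) * p) < p * (p * p) := by
    have h3 : (p - 1) * (p - 2) < p * p := by
      calc (p - 1) * (p - 2) ≤ p * (p - 2) := Nat.mul_le_mul_right _ (by omega)
        _ < p * p := Nat.mul_lt_mul_of_pos_left (by omega) hp.pos
    calc (p - 1) * ((p - 2) * p) = ((p - 1) * (p - 2)) * p := by ring
      _ < (p * p) * p := Nat.mul_lt_mul_of_pos_right h3 hp.pos
      _ = p * (p * p) := by ring
  calc (p - 1) * ((p - 2) * p) < p * (p * p) := h2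
    _ = p ^ 3 := by ring

end Cfsg.Agent.Helper16.BT
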