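import Cfsg.Agent.Helper16.BT.CaseII

/-!
# S0997 (Brauer–Tuan): case `δ = -1`, `4 ∣ e`
-/

set_option autoImplicit false

namespace Cfsg.Agent.Helper16.BT

open Cfsg Cfsg.Agent.Helper16 Cfsg.Agent.Helper16.DefOne Cfsg.Agent.Helper82.DefOne
  Cfsg.Agent.Helper77.DefOne Cfsg.Agent.Helper16.Brauer43 Cfsg.Agent.Helper54.BT
open scoped ComplexConjugate

universe u

variable {G : Type u} [Group G] [Fintype G] {p : ℕ} [Fact p.Prime]
  (P : Sylow p G) [Fintype (P : Subgroup G)] (D : L0Data P)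

/-- **case `δ = -1`, `e = 2^a`, `a ≥ 2`** -/
theorem case_III [IsSimpleGroup G] (hperf : commutator G = ⊤) (hP : Nat.card P = p)
    (hC : cen P = (P : Subgroup G)) (b f a : ℕ)
    (hes : (cen P).relIndex (nor P) * (nor P).index = 2 ^ b * f)
    (hone : Helper79.principalIrr G ∈ D.X ∧ D.ε (Helper79.principalIrr G) = 1)
    (hdiv : ∀ χ ∈ D.X, χ ≠ Helper79.principalIrr G → 2 ∣ charDegree (χ : G → ℂ))
    (hδ : D.δ = -1) (hY : ∀ ψ ∈ D.Y, charDegree (ψ : G → ℂ) = f)
    (hef : f + (cen P).relIndex (nor P) = p) (hea : (cen P).relIndex (nor P) = 2 ^ a)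
    (ha : 2 ≤ a) :
    Nat.card G < p ^ 3 ∧ ∃ m : ℕ, p = 2 ^ m + 1 ∨ p = 2 ^ m - 1 := by
  classical
  haveI : Finite (IrrCharacter G) := Helper79.irr_finite'
  have hp : p.Prime := Fact.out
  set e := (cen P).relIndex (nor P) with he
  set s := (nor P).index with hs
  have hcm : Nat.card G = s * (e * p) := card_eq_mul P hP hC
  obtain ⟨he1, hed, hep⟩ := e_basic P hP
  rw [← he] at he1 hed hep
  have he4 : 4 ∣ e := by
    rw [hea]
    exact pow_dvd_pow 2 ha
  have hXfin : D.X.Finite := Set.toFinite _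
  -- the degree equation
  obtain ⟨ψ₀, hψ₀⟩ := Helper47.B43.Y_nonempty47 P D hP
  have hrel := GL.degree_equation P D ψ₀ hψ₀
  rw [finsum_mem_eq_finite_toFinset_sum _ hXfin,
    ← Finset.add_sum_erase _ _ (hXfin.mem_toFinset.mpr hone.1),
    hone.2, charDegree_principal, hδ, hY ψ₀ hψ₀] at hrel
  set S := hXfin.toFinset.erase (Helper79.principalIrr G) with hS
  have hSmem : ∀ χ ∈ S, χ ∈ D.X ∧ χ ≠ Helper79.principalIrr G := by
    intro χ hχ
    rw [hS, Finset.mem_erase, Set.Finite.mem_toFinset] at hχ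
    exact ⟨hχ.2, hχ.1⟩
  have hsum : ∑ χ ∈ S, D.ε χ * (charDegree (χ : G → ℂ) : ℤ) = -(f : ℤ) - 1 := by
    push_cast at hrel
    linarith
  -- a degree `2 (mod 4)`
  have hp4 : (p : ℤ) ≡ 1 [ZMOD 4] := by
    obtain ⟨k, hk⟩ := hed
    obtain ⟨l, hl⟩ := he4
    have hp1 : 1 ≤ p := hp.one_lt.le
    have h1 : (p : ℤ) = 1 + 4 * ((l * k : ℕ) : ℤ) := by
      have : p = 1 + 4 * (l * k) := by
        have : p - 1 = 4 * (l * k) := by rw [hk, hl]; ring
        omega
      exact_mod_cast this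
    rw [h1]
    exact Int.modEq_iff_dvd.mpr ⟨-((l * k : ℕ) : ℤ), by ring⟩
  have hf4 : (f : ℤ) ≡ 1 [ZMOD 4] := by
    have h1 : (f : ℤ) = (p : ℤ) - (e : ℤ) := by
      rw [← hef]; push_cast; ring
    rw [h1]
    have h2 : (e : ℤ) ≡ 0 [ZMOD 4] := by
      apply Int.modEq_zero_iff_dvd.mpr
      exact_mod_cast he4
    simpa using hp4.sub h2
  have hsum4 : ∑ χ ∈ S, D.ε χ * (charDegree (χ : G → ℂ) : ℤ) ≡ 2 [ZMOD 4] := by
    rw [hsum]
    have h1 : -(f : ℤ) - 1 ≡ -1 - 1 [ZMOD 4] := (hf4.neg).sub_right 1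
    exact h1.trans (by decide)
  obtain ⟨χ₁, hχ₁S, hχ₁4⟩ := exists_two_mod_four S
    (fun χ => D.ε χ * (charDegree (χ : G → ℂ) : ℤ))
    (by
      intro χ hχ
      have : (2 : ℤ) ∣ (charDegree (χ : G → ℂ) : ℤ) := by
        exact_mod_cast hdiv χ (hSmem χ hχ).1 (hSmem χ hχ).2
      exact Dvd.dvd.mul_left this _) hsum4
  have hχ₁X := (hSmem χ₁ hχ₁S).1
  have hd4 : charDegree (χ₁ : G → ℂ) % 4 = 2 := by
    have h1 : (charDegree (χ₁ : G → ℂ) : ℤ) % 4 = 2 := by
      rcases D.hε χ₁ with h | h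
      · rw [h, one_mul] at hχ₁4
        exact hχ₁4
      · rw [h] at hχ₁4
        have h2 : (-1 * (charDegree (χ₁ : G → ℂ) : ℤ)) % 4 = 2 := hχ₁4
        omega
    omega
  have hpe : p = 2 * e + 1 := by
    refine arith_minus_t2 p e f b (charDegree (χ₁ : G → ℂ)) hp (by omega) hed he4 ?_ hd4 ?_
    · have := GL.deg_dvd_X P D hP hC χ₁ hχ₁X
      rw [← he, ← hs, hes, mul_comm] at this
      exact this
    · have := GL.deg_modEq_X P D hP χ₁ hχ₁X
      rcases D.hε χ₁ with h | h <;> rw [h] at this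
      · exact Or.inl this
      · exact Or.inr this
  -- `p = 2^m + 1`
  set m := a + 1 with hm
  have hm3 : 3 ≤ m := by omega
  have h2m : 2 ^ m = 2 * e := by rw [hm, pow_succ, hea]; ring
  have hpm : p = 2 ^ m + 1 := by omega
  have hfe : f = e + 1 := by omega
  have hem : e = 2 ^ (m - 1) := by
    rw [hea]; congr 1
  have hfm : f = 2 ^ (m - 1) + 1 := by rw [hfe, hem]
  have hfodd : ¬ 2 ∣ f := by
    rw [hfe]
    intro h
    have : 2 ∣ e := Dvd.dvd.trans (by norm_num) he4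
    omega
  have hp2 : p ≠ 2 := by omega
  -- `s = 2^x f`
  have hmb : m - 1 ≤ b := by
    have h1 : 2 ^ (m - 1) ∣ 2 ^ b * f := by rw [← hes, ← hem]; exact dvd_mul_right _ _
    have hcop : Nat.Coprime (2 ^ (m - 1)) f :=
      Nat.Coprime.pow_left _ ((Nat.Prime.coprime_iff_not_dvd Nat.prime_two).mpr hfodd)
    have h2 : 2 ^ (m - 1) ∣ 2 ^ b := hcop.dvd_of_dvd_mul_right h1
    exact (Nat.pow_dvd_pow_iff_le_right (by norm_num)).mp h2
  obtain ⟨x, hx⟩ : ∃ x, b = (m - 1) + x := ⟨b - (m - 1), by omega⟩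
  have hsx : s = 2 ^ x * f := by
    have h1 : e * s = e * (2 ^ x * f) := by
      rw [hes, hx, pow_add, ← hem]; ring
    exact Nat.eq_of_mul_eq_mul_left (by omega) h1
  have hsmod : s ≡ 1 [MOD p] := index_nor_modEq P hP
  -- `2^x ≡ 2 (mod p)`
  have h2x : 2 ^ x ≡ 2 [MOD p] := by
    have h1 : 2 ^ x * (2 * f) ≡ 2 [MOD p] := by
      have : 2 ^ x * (2 * f) = 2 * s := by rw [hsx]; ring
      rw [this]
      simpa using hsmod.mul_left 2
    have h2 : 2 * f ≡ 1 [MOD p] := by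
      have : 2 * f = p + 1 := by omega
      rw [this]
      simp [Nat.ModEq]
    have h3 : 2 ^ x * (2 * f) ≡ 2 ^ x * 1 [MOD p] := h2.mul_left _
    rw [mul_one] at h3
    exact h3.symm.trans h1
  have hx1 : 1 ≤ x := by
    rcases Nat.eq_zero_or_pos x with h | h
    · rw [h, pow_zero] at h2x
      have := Nat.ModEq.dvd h2x
      norm_num at this
      have h5 := Int.le_of_dvd (by norm_num) this
      omega
    · exact h
  have h2x' : 2 ^ (x - 1) ≡ 1 [MOD 2 ^ m + 1] := by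
    rw [← hpm]
    have h1 : 2 * 2 ^ (x - 1) ≡ 2 * 1 [MOD p] := by
      rw [← pow_succ']
      have : x - 1 + 1 = x := by omega
      rw [this, mul_one]
      exact h2x
    have hcop : Nat.gcd p 2 = 1 := by
      have : Nat.Coprime p 2 := by
        rw [Nat.coprime_comm]
        exact (Nat.Prime.coprime_iff_not_dvd Nat.prime_two).mpr (fun h =>
          hp2 ((Nat.prime_dvd_prime_iff_eq Nat.prime_two hp).mp h).symm)
      exact this
    exact Nat.ModEq.cancel_left_of_coprime hcop h1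
  obtain ⟨k', hk'⟩ := dvd_of_two_pow_modEq_III m (x - 1) (by omega) h2x'
  have hbm : b = m * (2 * k' + 1) := by
    have : x = 2 * m * k' + 1 := by omega
    rw [hx, this]
    have : m - 1 + (2 * m * k' + 1) = m + 2 * m * k' := by omega
    rw [this]; ring
  have hG2 : Nat.card G = 2 ^ b * (f * p) := by
    rw [hcm]
    calc s * (e * p) = (e * s) * p := by ring
      _ = 2 ^ b * f * p := by rw [hes]
      _ = 2 ^ b * (f * p) := by ring
  rcases Nat.eq_zero_or_pos k' with hk0 | hkpos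
  · -- `b = m`
    rw [hk0, mul_zero, zero_add, mul_one] at hbm
    refine ⟨?_, m, Or.inl hpm⟩
    rw [hG2, hbm]
    have h1 : 2 ^ m = p - 1 := by omega
    rw [h1]
    have h3 : (p - 1) * f < p * p := by
      calc (p - 1) * f ≤ p * f := Nat.mul_le_mul_right _ (by omega)
        _ < p * p := Nat.mul_lt_mul_of_pos_left (by omega) hp.pos
    calc (p - 1) * (f * p) = ((p - 1) * f) * p := by ring
      _ < (p * p) * p := Nat.mul_lt_mul_of_pos_right h3 hp.pos
      _ = p ^ 3 := by ring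
  · -- `b ≥ 3m`: contradiction
    exfalso
    set J := 2 * k' + 1 with hJ
    have hJ2 : 2 ≤ J := by omega
    have hb2 : (Nat.card G).factorization 2 = m * J := by
      rw [hG2, hbm]
      apply factorization_two_pow_mul_odd
      intro h
      rcases (Nat.Prime.dvd_mul Nat.prime_two).mp h with h1 | h1
      · exact hfodd h1
      · have := (Nat.prime_dvd_prime_iff_eq Nat.prime_two hp).mp h1
        omega
    obtain ⟨Mp, hMp⟩ := Helper74.exists_isPModular p hp
    obtain ⟨M₂, hM₂⟩ := Helper74.exists_isPModular 2 Nat.prime_two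
    have hYB : D.Y ⊆ principalBlock M₂ G := by
      refine Y_subset_principal2 P D hP hC hp2 (m * J) hb2 Mp M₂ hMp hM₂ hone hdiv f hY hfodd
        (m - 1) 1 ?_ (by norm_num) hpe ?_
      · rw [mul_one, ← he, hem]
      · have : m * 2 ≤ m * J := Nat.mul_le_mul_left m hJ2
        omega
    have hsJ : e * s = 2 ^ (m * J) * f := by rw [hes, hbm]
    have htype : ∀ χ ∈ D.X, χ ≠ Helper79.principalIrr G → ∃ j : ℕ, j < J ∧
        (D.ε χ * (charDegree (χ : G → ℂ) : ℤ) = (-((2 ^ m : ℕ) : ℤ)) ^ j ∨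
          D.ε χ * (charDegree (χ : G → ℂ) : ℤ) =
            (-((2 ^ m : ℕ) : ℤ)) ^ j * (2 - -((2 ^ m : ℕ) : ℤ))) := by
      intro χ hχ _
      have hd := GL.deg_dvd_X P D hP hC χ hχ
      rw [← he, ← hs, hsJ, hfm, mul_comm] at hd
      have hmod := GL.deg_modEq_X P D hP χ hχ
      have hsq := deg_sq_le (G := G) χ
      rw [hG2, hbm] at hsq
      have hsq' : charDegree (χ : G → ℂ) * charDegree (χ : G → ℂ) ≤
          2 ^ (m * J) * ((2 ^ (m - 1) + 1) * (2 ^ m + 1)) := by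
        rw [← hfm, ← hpm]
        exact hsq
      have hmod' : (charDegree (χ : G → ℂ) : ℤ) ≡ D.ε χ [ZMOD ((2 ^ m + 1 : ℕ) : ℤ)] := by
        rw [← hpm]
        exact hmod
      obtain ⟨j, hj, h⟩ := types_III m J _ (D.ε χ) (by omega) hJ2 (D.hε χ) hd hmod' hsq'
      refine ⟨j, hj, ?_⟩
      push_cast
      exact h
    -- a member of type `a`
    set β : ℤ := -((2 ^ m : ℕ) : ℤ) with hβ
    have hβ2 : 2 < |β - 2| := by
      have h1 : (8 : ℤ) ≤ ((2 ^ m : ℕ) : ℤ) := by
        have : 2 ^ 3 ≤ 2 ^ m := Nat.pow_le_pow_right (by norm_num) hm3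
        exact_mod_cast this
      rw [hβ, abs_of_neg (by linarith)]
      linarith
    have hsum2 : 2 * (1 + ∑ χ ∈ S, D.ε χ * (charDegree (χ : G → ℂ) : ℤ)) = β - 2 := by
      rw [hsum, hβ]
      have h1 : ((2 ^ m : ℕ) : ℤ) = 2 * (e : ℤ) := by exact_mod_cast h2m
      have h2 : (f : ℤ) = (e : ℤ) + 1 := by exact_mod_cast hfe
      rw [h1, h2]
      ring
    obtain ⟨χa, hχaS, j, hj⟩ := exists_a_type S
      (fun χ => D.ε χ * (charDegree (χ : G → ℂ) : ℤ)) β hβ2 hsum2
      (by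
        intro χ hχ
        obtain ⟨j, -, h⟩ := htype χ (hSmem χ hχ).1 (hSmem χ hχ).2
        exact ⟨j, h⟩)
    have hχaX := (hSmem χa hχaS).1
    have hχane := (hSmem χa hχaS).2
    -- its degree is `2^(m j)`
    have hdega : charDegree (χa : G → ℂ) = 2 ^ (m * j) := by
      have h1 : ((charDegree (χa : G → ℂ) : ℤ)).natAbs = (β ^ j).natAbs := by
        rw [← hj, Int.natAbs_mul]
        rcases D.hε χa with h | h <;> rw [h] <;> simp
      rw [Int.natAbs_natCast, Int.natAbs_pow, hβ, Int.natAbs_neg, Int.natAbs_natCast,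
        ← pow_mul] at h1
      exact h1
    have hj1 : 1 ≤ m * j := by
      rcases Nat.eq_zero_or_pos (m * j) with h | h
      · rw [h, pow_zero] at hdega
        have := hdiv χa hχaX hχane
        rw [hdega] at this
        omega
      · exact h
    refine block_contra P D hperf hP hC hp2 m J hb2 Mp M₂ hMp hM₂ hYB β (Or.inr rfl) htype
      hone.1 ?_ χa hχaX (m * j) hj1 hdega
    rw [← he]
    omega

end Cfsg.Agent.Helper16.BT
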