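import Cfsg.Agent.Helper57.BH.Pieces

/-!
# S0997 (Brauer–Tuan), front end (A): small characters of the principal block

A character `ψ` of the principal `p`-block (`|P| = p`) with `ψ(1) < p` has every `p`-regular
element of `C_G(P)` in its kernel.
-/

set_option autoImplicit false

namespace Cfsg.Agent.Helper16.BT

open Cfsg Cfsg.Agent.Helper16 Cfsg.Agent.Helper16.DefOne Cfsg.Agent.Helper82.DefOne
  Cfsg.Agent.Helper77.DefOne
open scoped ComplexConjugate

universe u

variable {G : Type u} [Group G] [Fintype G] {p : ℕ} [Fact p.Prime] (P : Sylow p G)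

/-- the rows of a character of the principal block vanish away from the trivial character -/
theorem rowZ_eq_zero_of_can_ne (hP : Nat.card P = p)
    [((P : Subgroup G).subgroupOf (nor P)).Normal] (hmod : ModCount p P) (ψ : IrrCharacter G)
    (hψ : ψ ∈ Rset P (oneIrr P)) (φ : IrrCharacter (cen P)) (hφ : can P φ ≠ oneIrr P) :
    rowZ P ψ φ = 0 := by
  by_contra hne
  have h1 : ψ ∈ Rset P (can P φ) := ⟨φ, rfl, hne⟩
  have hnot : ¬ ∃ n : nor P, n • oneIrr P = can P φ := by
    rintro ⟨n, hn⟩
    rw [smul_oneIrr] at hn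
    exact hφ hn.symm
  exact Set.disjoint_left.mp
    (Rset_disjoint P hP hmod (oneIrr P) (can P φ) (isCanon_oneIrr P) (isCanon_can P hP φ) hnot)
    hψ h1

/-- the degree as the sum of the multiplicities times the degrees -/
theorem degree_eq_finsum_mult (ψ : IrrCharacter G) :
    (charDegree (ψ : G → ℂ) : ℤ) =
      ∑ᶠ φ : IrrCharacter (cen P), mult P ψ φ * (charDegree (φ : cen P → ℂ) : ℤ) := by
  classical
  haveI : Fintype (cen P) := Fintype.ofFinite _
  haveI : Finite (IrrCharacter (cen P)) := Helper79.irr_finite'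
  haveI : Fintype (IrrCharacter (cen P)) := Fintype.ofFinite _
  have h := Helper57.BH.restrict_eq_finsum_mult P ψ (1 : cen P)
  rw [finsum_eq_sum_of_fintype] at h ⊢
  have h1 : (ψ : G → ℂ) ((1 : cen P) : G) = ((charDegree (ψ : G → ℂ) : ℤ) : ℂ) := by
    rw [OneMemClass.coe_one, Helper79.irr_one ψ]
    push_cast
    rfl
  rw [h1] at h
  have h2 : ∑ φ : IrrCharacter (cen P), (mult P ψ φ : ℂ) * (φ : cen P → ℂ) 1 =
      ((∑ φ : IrrCharacter (cen P), mult P ψ φ * (charDegree (φ : cen P → ℂ) : ℤ) : ℤ) : ℂ) := by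
    push_cast
    refine Finset.sum_congr rfl (fun φ _ => ?_)
    rw [Helper79.irr_one φ]
  rw [h2] at h
  exact_mod_cast h

/-- a small character of the principal block has no constituents away from the trivial
character -/
theorem mult_eq_zero_of_can_ne (hP : Nat.card P = p)
    [((P : Subgroup G).subgroupOf (nor P)).Normal] (hmod : ModCount p P) (ψ : IrrCharacter G)
    (hψ : ψ ∈ Rset P (oneIrr P)) (hdeg : charDegree (ψ : G → ℂ) < p)
    (φ : IrrCharacter (cen P)) (hφ : can P φ ≠ oneIrr P) : mult P ψ φ = 0 := by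
  classical
  haveI : Fintype (cen P) := Fintype.ofFinite _
  haveI : Finite (IrrCharacter (cen P)) := Helper79.irr_finite'
  haveI : Fintype (IrrCharacter (cen P)) := Fintype.ofFinite _
  by_contra hne
  set θ' := can P φ with hθ'
  have hθc : IsCanon P θ' := isCanon_can P hP φ
  -- all members of the fibre have the multiplicity of `θ'`
  have hfib : ∀ φ' : IrrCharacter (cen P), can P φ' = θ' → mult P ψ φ' = mult P ψ θ' := by
    intro φ' h'
    have h0 := rowZ_eq_zero_of_can_ne P hP hmod ψ hψ φ' (by rw [h']; exact hφ)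
    unfold rowZ at h0
    rw [h'] at h0
    omega
  have hm : 1 ≤ mult P ψ θ' := by
    have h1 := hfib φ rfl
    have h2 := Helper57.BH.mult_nonneg P ψ φ
    omega
  have hsum := degree_eq_finsum_mult P ψ
  rw [finsum_eq_sum_of_fintype] at hsum
  -- the fibre
  set F : Finset (IrrCharacter (cen P)) := Finset.univ.filter (fun φ' => can P φ' = θ') with hF
  have hFcard : F.card = p := by
    have h1 := card_fibre_can P hP θ' hθc
    rw [Nat.card_eq_fintype_card, Fintype.card_subtype] at h1
    exact h1
  have hle : ∑ φ' ∈ F, (1 : ℤ) ≤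
      ∑ φ' : IrrCharacter (cen P), mult P ψ φ' * (charDegree (φ' : cen P → ℂ) : ℤ) := by
    calc ∑ φ' ∈ F, (1 : ℤ)
        ≤ ∑ φ' ∈ F, mult P ψ φ' * (charDegree (φ' : cen P → ℂ) : ℤ) := by
          apply Finset.sum_le_sum
          intro φ' h'
          rw [hF, Finset.mem_filter] at h'
          rw [hfib φ' h'.2]
          have hd : (1 : ℤ) ≤ (charDegree (φ' : cen P → ℂ) : ℤ) := by
            exact_mod_cast Helper79.irr_charDegree_pos φ'
          nlinarith
      _ ≤ ∑ φ' : IrrCharacter (cen P), mult P ψ φ' * (charDegree (φ' : cen P → ℂ) : ℤ) := by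
          apply Finset.sum_le_sum_of_subset_of_nonneg (Finset.subset_univ _)
          intro φ' _ _
          have h1 := Helper57.BH.mult_nonneg P ψ φ'
          have hd : (0 : ℤ) ≤ (charDegree (φ' : cen P → ℂ) : ℤ) := by positivity
          positivity
  rw [Finset.sum_const, hFcard, ← hsum] at hle
  simp only [nsmul_eq_mul, mul_one] at hle
  have : (p : ℤ) ≤ (charDegree (ψ : G → ℂ) : ℤ) := hle
  omega

/-- (A) a small character of the principal block has the `p`-regular elements of `C_G(P)` in its
kernel -/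
theorem apply_regular_of_small (hP : Nat.card P = p)
    [((P : Subgroup G).subgroupOf (nor P)).Normal] (hmod : ModCount p P) (ψ : IrrCharacter G)
    (hψ : ψ ∈ Rset P (oneIrr P)) (hdeg : charDegree (ψ : G → ℂ) < p) (y : cen P)
    (hy : ¬ p ∣ orderOf y) : (ψ : G → ℂ) (y : G) = (ψ : G → ℂ) 1 := by
  classical
  have hp : p.Prime := Fact.out
  have h1 := Helper57.BH.restrict_eq_finsum_mult P ψ y
  have h2 := Helper57.BH.restrict_eq_finsum_mult P ψ (1 : cen P)
  rw [OneMemClass.coe_one] at h2
  rw [h1, h2]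
  apply finsum_congr
  intro φ
  by_cases hφ : can P φ = oneIrr P
  · have hy1 : (φ : cen P → ℂ) y = 1 := by
      rw [can_apply_regular P hP φ y hy, hφ]
      rfl
    have h11 : (φ : cen P → ℂ) 1 = 1 := by
      rw [can_apply_regular P hP φ 1 (by rw [orderOf_one]; exact hp.not_dvd_one), hφ]
      rfl
    rw [hy1, h11]
  · rw [mult_eq_zero_of_can_ne P hP hmod ψ hψ hdeg φ hφ]
    simp

end Cfsg.Agent.Helper16.BT
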