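import Cfsg.Agent.Helper16.BT.FrontA
import Cfsg.Agent.Helper74.DegP
import Cfsg.Agent.Helper20.D8Main
import Cfsg.Agent.Helper3.ScalarSubgroup
import Cfsg.Agent.Helper74.CharCenter

/-!
# S0997 (Brauer–Tuan), front end (B): `C_G(P) = P`

`G` perfect and simple, `|G| = p q^b g₀` with `g₀ < p - 1`: the principal `p`-block contains a
nonprincipal character of degree dividing `g₀`, it is faithful, hence `C_G(P) = P`.
-/

set_option autoImplicit false

namespace Cfsg.Agent.Helper16.BT

open Cfsg Cfsg.Agent.Helper16 Cfsg.Agent.Helper16.DefOne Cfsg.Agent.Helper82.DefOne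
  Cfsg.Agent.Helper77.DefOne
open scoped ComplexConjugate

universe u

variable {G : Type u} [Group G] [Fintype G]

/-- a nonprincipal irreducible character of a perfect simple group is faithful -/
theorem faithful_of_simple_perfect [IsSimpleGroup G] (hperf : commutator G = ⊤)
    (ψ : IrrCharacter G) (hne : ψ ≠ Helper79.principalIrr G) (g : G)
    (hg : (ψ : G → ℂ) g = (ψ : G → ℂ) 1) : g = 1 := by
  by_contra hg1
  have hmem : g ∈ Helper74.charCenter ψ := by
    rw [Helper74.mem_charCenter_iff, hg, Helper79.irr_one ψ]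
    simp
  have hx : ∃ c : ℂ, (Helper74.irrRep ψ) g = c • (LinearMap.id : (Fin (Helper74.irrDim ψ) → ℂ) →ₗ[ℂ] _) :=
    hmem
  haveI := Helper74.irrRep_isIrreducible ψ
  have h1 := Helper3.character_eq_one_of_scalar (Helper74.irrRep ψ) hperf g hg1 hx
  rw [Helper74.irrRep_character] at h1
  exact hne (Subtype.ext h1)

variable {p : ℕ} [Fact p.Prime] (P : Sylow p G)

/-- if every `p`-regular element of `C_G(P)` is trivial then `C_G(P) = P` -/
theorem cen_eq_of_regular_trivial (hP : Nat.card P = p)
    (h : ∀ y : cen P, ¬ p ∣ orderOf y → y = 1) : cen P = (P : Subgroup G) := by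
  have hp : p.Prime := Fact.out
  have hpg : IsPGroup p (cen P) := by
    intro c
    obtain ⟨k, m, hm, hkm⟩ := Nat.exists_eq_pow_mul_and_not_dvd (orderOf_pos c).ne' p hp.ne_one
    refine ⟨k, ?_⟩
    apply h
    have hdvd : p ^ k ∣ orderOf c := ⟨m, hkm⟩
    rw [orderOf_pow_of_dvd (pow_ne_zero _ hp.ne_zero) hdvd, hkm,
      Nat.mul_div_cancel_left _ (pow_pos hp.pos k)]
    exact hm
  exact P.is_maximal' hpg (le_cen P hP)

end Cfsg.Agent.Helper16.BT
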