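import Cfsg.Agent.Helper16.BT.FrontB

/-!
# S0997 (Brauer–Tuan), front end (C): `C_G(P) = P` from the order of `G`
-/

set_option autoImplicit false

namespace Cfsg.Agent.Helper16.BT

open Cfsg Cfsg.Agent.Helper16 Cfsg.Agent.Helper16.DefOne Cfsg.Agent.Helper82.DefOne
  Cfsg.Agent.Helper77.DefOne
open scoped ComplexConjugate

universe u

variable {G : Type u} [Group G] [Fintype G] {p : ℕ} [Fact p.Prime] (P : Sylow p G)

/-- the degree relation of the principal block, over the integers -/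
theorem degree_relation_int (hP : Nat.card P = p) {X Y : Set (IrrCharacter G)}
    {ε : IrrCharacter G → ℤ} {δ : ℤ} (D : Helper57.BH.IsRData P (oneIrr P) X Y ε δ)
    (ψ : IrrCharacter G) (hψ : ψ ∈ Y) :
    δ * (charDegree (ψ : G → ℂ) : ℤ) = ∑ᶠ χ ∈ X, ε χ * (charDegree (χ : G → ℂ) : ℤ) := by
  classical
  have hp : p.Prime := Fact.out
  haveI : Finite (IrrCharacter G) := Helper79.irr_finite'
  have h1 := D.rel ψ hψ 1 (by rw [orderOf_one]; exact hp.not_dvd_one)
  have hXfin : X.Finite := Set.toFinite X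
  rw [finsum_mem_eq_finite_toFinset_sum _ hXfin] at h1 ⊢
  have h2 : ∑ χ ∈ hXfin.toFinset, (ε χ : ℂ) * (χ : G → ℂ) 1 =
      ((∑ χ ∈ hXfin.toFinset, ε χ * (charDegree (χ : G → ℂ) : ℤ) : ℤ) : ℂ) := by
    push_cast
    refine Finset.sum_congr rfl (fun χ _ => ?_)
    rw [Helper79.irr_one χ]
  rw [h2, Helper79.irr_one ψ] at h1
  exact_mod_cast h1

/-- **front end**: in a perfect simple group of order `p q^b g₀` with `g₀ < p - 1` a Sylow
`p`-subgroup is self-centralizing -/
theorem cen_eq_of_card [IsSimpleGroup G] (hperf : commutator G = ⊤) (hP : Nat.card P = p)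
    (q b g₀ : ℕ) (hq : q.Prime) (hpq : p ≠ q) (hcard : Nat.card G = p * q ^ b * g₀)
    (hg : g₀ < p - 1) : cen P = (P : Subgroup G) := by
  classical
  have hp : p.Prime := Fact.out
  haveI : Finite (IrrCharacter G) := Helper79.irr_finite'
  haveI := normal_subgroupOf_nor P hP
  have hnor := nor_eq_normalizer P hP
  obtain ⟨M, hM⟩ := Helper74.exists_isPModular p hp
  have hmod : ModCount p P := Helper24.DefOneMZ2.module_count M hM P hP hnor
  obtain ⟨X, Y, ε, δ, D⟩ := Helper57.BH.exists_isRData P hP hmod (oneIrr P) (isCanon_oneIrr P)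
  have hin : inertia P (oneIrr P) = (cen P).relIndex (nor P) := inertia_oneIrr P hP
  have hepos : 0 < (cen P).relIndex (nor P) := relIndex_pos P
  have hed : (cen P).relIndex (nor P) ∣ p - 1 := relIndex_cen_nor_dvd P hP
  have hp2 : 2 ≤ p := hp.two_le
  have hele : (cen P).relIndex (nor P) ≤ p - 1 := Nat.le_of_dvd (by omega) hed
  have hg0 : 0 < g₀ := by
    rcases Nat.eq_zero_or_pos g₀ with h | h
    · rw [h, mul_zero] at hcard
      have := Nat.card_pos (α := G)
      omega
    · exact h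
  -- degrees modulo `p`
  have hdX : ∀ χ ∈ X, (charDegree (χ : G → ℂ) : ℤ) ≡ ε χ [ZMOD p] := by
    intro χ hχ
    have h1 := D.degX χ hχ
    rw [hin, Nat.div_self hepos, charDegree_oneIrr] at h1
    simpa using h1
  have hdY : ∀ ψ ∈ Y, (charDegree (ψ : G → ℂ) : ℤ) ≡
      δ * ((cen P).relIndex (nor P) : ℤ) [ZMOD p] := by
    intro ψ hψ
    have h1 := D.degY ψ hψ
    rw [charDegree_oneIrr] at h1
    simpa using h1
  have hnpX : ∀ χ ∈ X, ¬ p ∣ charDegree (χ : G → ℂ) := by
    intro χ hχ hdvd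
    have h1 := hdX χ hχ
    have h2 : (p : ℤ) ∣ (charDegree (χ : G → ℂ) : ℤ) := by exact_mod_cast hdvd
    have h3 : (p : ℤ) ∣ ε χ := by
      have := (Int.modEq_iff_dvd.mp h1)
      have h4 : (p : ℤ) ∣ (charDegree (χ : G → ℂ) : ℤ) + (ε χ - (charDegree (χ : G → ℂ) : ℤ)) :=
        dvd_add h2 this
      simpa using h4
    rcases D.eps χ with h | h <;> rw [h] at h3
    · have := Int.le_of_dvd (by norm_num) h3
      omega
    · rw [dvd_neg] at h3
      have := Int.le_of_dvd (by norm_num) h3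
      omega
  have hnpY : ∀ ψ ∈ Y, ¬ p ∣ charDegree (ψ : G → ℂ) := by
    intro ψ hψ hdvd
    have h1 := hdY ψ hψ
    have h2 : (p : ℤ) ∣ (charDegree (ψ : G → ℂ) : ℤ) := by exact_mod_cast hdvd
    have h3 : (p : ℤ) ∣ δ * ((cen P).relIndex (nor P) : ℤ) := by
      have := (Int.modEq_iff_dvd.mp h1)
      have h4 : (p : ℤ) ∣ (charDegree (ψ : G → ℂ) : ℤ) +
          (δ * ((cen P).relIndex (nor P) : ℤ) - (charDegree (ψ : G → ℂ) : ℤ)) :=
        dvd_add h2 this
      simpa using h4
    have h5 : (p : ℤ) ∣ ((cen P).relIndex (nor P) : ℤ) := by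
      rcases D.del with h | h <;> rw [h] at h3
      · simpa using h3
      · have : (p : ℤ) ∣ -((cen P).relIndex (nor P) : ℤ) := by simpa using h3
        exact (dvd_neg).mp this
    have h6 : p ∣ (cen P).relIndex (nor P) := by exact_mod_cast h5
    have := Nat.le_of_dvd hepos h6
    omega
  -- the principal block
  have hpb : principalBlock M G = X ∪ Y := by
    rw [principalBlock_eq_Rset M P hM hP, D.union]
  have hMp : M.IsPrime := Helper78.isPrime_of_isPModular hM
  have hone : Helper79.principalIrr G ∈ X ∪ Y := by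
    rw [← hpb]
    exact Helper78.sameBlock_refl hMp _
  have hYne : Y.Nonempty := by
    have h1 := D.cardY
    rw [hin] at h1
    have h2 : 0 < (p - 1) / (cen P).relIndex (nor P) := Nat.div_pos hele hepos
    rw [← h1] at h2
    have : Nonempty Y := (Nat.card_pos_iff.mp h2).1
    obtain ⟨⟨ψ, hψ⟩⟩ := this
    exact ⟨ψ, hψ⟩
  have hdeg1 : charDegree ((Helper79.principalIrr G : IrrCharacter G) : G → ℂ) = 1 := by
    show charDegree (fun _ : G => (1 : ℂ)) = 1
    simp [charDegree]
  -- a nonprincipal member of the principal block of degree prime to `q`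
  have hex : ∃ ψ ∈ X ∪ Y, ψ ≠ Helper79.principalIrr G ∧ ¬ q ∣ charDegree (ψ : G → ℂ) := by
    by_contra hcon
    push Not at hcon
    have hqZ : ∀ ψ ∈ X ∪ Y, ψ ≠ Helper79.principalIrr G →
        (q : ℤ) ∣ (charDegree (ψ : G → ℂ) : ℤ) := by
      intro ψ h1 h2
      exact_mod_cast hcon ψ h1 h2
    have hXfin : X.Finite := Set.toFinite X
    have hq1 : ¬ (q : ℤ) ∣ 1 := by
      intro h
      have := Int.le_of_dvd (by norm_num) h
      have := hq.two_le
      omega
    rcases hone with h1X | h1Y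
    · obtain ⟨ψ₀, hψ₀⟩ := hYne
      have hne0 : ψ₀ ≠ Helper79.principalIrr G := by
        intro h
        rw [h] at hψ₀
        exact (Set.disjoint_left.mp D.disj h1X) hψ₀
      have hrel := degree_relation_int P hP D ψ₀ hψ₀
      rw [finsum_mem_eq_finite_toFinset_sum _ hXfin,
        ← Finset.add_sum_erase _ _ (hXfin.mem_toFinset.mpr h1X), hdeg1] at hrel
      have h2 : (q : ℤ) ∣ δ * (charDegree (ψ₀ : G → ℂ) : ℤ) :=
        Dvd.dvd.mul_left (hqZ ψ₀ (Or.inr hψ₀) hne0) _
      have h3 : (q : ℤ) ∣ ∑ χ ∈ hXfin.toFinset.erase (Helper79.principalIrr G),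
          ε χ * (charDegree (χ : G → ℂ) : ℤ) := by
        apply Finset.dvd_sum
        intro χ hχ
        rw [Finset.mem_erase, Set.Finite.mem_toFinset] at hχ
        exact Dvd.dvd.mul_left (hqZ χ (Or.inl hχ.2) hχ.1) _
      rw [hrel] at h2
      have h4 : (q : ℤ) ∣ ε (Helper79.principalIrr G) * ((1 : ℕ) : ℤ) :=
        (Int.dvd_add_left h3).mp h2
      rcases D.eps (Helper79.principalIrr G) with h | h <;> rw [h] at h4
      · exact hq1 (by simpa using h4)
      · have : (q : ℤ) ∣ -1 := by simpa using h4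
        exact hq1 ((dvd_neg).mp this)
    · have hrel := degree_relation_int P hP D _ h1Y
      rw [hdeg1, finsum_mem_eq_finite_toFinset_sum _ hXfin] at hrel
      have h3 : (q : ℤ) ∣ ∑ χ ∈ hXfin.toFinset, ε χ * (charDegree (χ : G → ℂ) : ℤ) := by
        apply Finset.dvd_sum
        intro χ hχ
        rw [Set.Finite.mem_toFinset] at hχ
        have hne : χ ≠ Helper79.principalIrr G := by
          intro h
          rw [h] at hχ
          exact (Set.disjoint_left.mp D.disj hχ) h1Y
        exact Dvd.dvd.mul_left (hqZ χ (Or.inl hχ) hne) _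
      rw [← hrel] at h3
      rcases D.del with h | h <;> rw [h] at h3
      · exact hq1 (by simpa using h3)
      · have : (q : ℤ) ∣ -1 := by simpa using h3
        exact hq1 ((dvd_neg).mp this)
  obtain ⟨ψ, hψXY, hψne, hψq⟩ := hex
  -- its degree divides `g₀`
  have hψp : ¬ p ∣ charDegree (ψ : G → ℂ) := by
    rcases hψXY with h | h
    · exact hnpX ψ h
    · exact hnpY ψ h
  have hdvd : charDegree (ψ : G → ℂ) ∣ Nat.card G := Helper74.charDegree_dvd_card ψ
  rw [hcard, mul_assoc] at hdvd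
  have h1 : charDegree (ψ : G → ℂ) ∣ q ^ b * g₀ :=
    (Nat.Coprime.dvd_mul_left ((Nat.Prime.coprime_iff_not_dvd hp).mpr hψp).symm).mp hdvd
  have h2 : charDegree (ψ : G → ℂ) ∣ g₀ := by
    have hcop : Nat.Coprime (charDegree (ψ : G → ℂ)) (q ^ b) :=
      Nat.Coprime.pow_right b ((Nat.Prime.coprime_iff_not_dvd hq).mpr hψq).symm
    exact (Nat.Coprime.dvd_mul_left hcop).mp h1
  have hsmall : charDegree (ψ : G → ℂ) < p := by
    have := Nat.le_of_dvd hg0 h2
    omega
  have hψR : ψ ∈ Rset P (oneIrr P) := by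
    rw [D.union]; exact hψXY
  apply cen_eq_of_regular_trivial P hP
  intro y hy
  have h3 := apply_regular_of_small P hP hmod ψ hψR hsmall y hy
  have h4 := faithful_of_simple_perfect hperf ψ hψne (y : G) h3
  exact Subtype.ext h4

end Cfsg.Agent.Helper16.BT
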