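import Cfsg.Agent.Helper54.BT.Defs
import Cfsg.Agent.Helper63.BTBS
import Cfsg.Agent.Helper70.BTFC
import Cfsg.Agent.Helper89.BTDP
import Cfsg.Agent.Helper65.BTNO
import Cfsg.Agent.Helper57.BH.Pieces
import Cfsg.Agent.S4731
import Cfsg.Agent.S4503
import Cfsg.Agent.Helper88.BT97A13
import Cfsg.Agent.Helper88.BT97A4
import Cfsg.Agent.Helper88.BT97A5
import Cfsg.Agent.Helper68.BT97A6
import Cfsg.Agent.Helper68.BT97A8
import Cfsg.Agent.Helper41.BT97A7I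
import Cfsg.Agent.Helper41.BT97A7III
import Cfsg.Agent.Helper49.BT97A9
import Cfsg.Agent.Helper69.BT97A10
import Cfsg.Agent.Helper69.BT97A11
import Cfsg.Agent.Helper69.BT97A12
import Cfsg.Agent.Helper77.BT97C1
import Cfsg.Agent.Helper24.BT97C23
import Cfsg.Agent.Helper37.BT97C4
import Cfsg.Agent.Helper37.BT97C6
import Cfsg.Agent.Helper65.BT97C5
import Cfsg.Agent.Helper66.BT97C7
import Cfsg.Agent.Helper66.BT97C8
import Cfsg.Agent.Helper66.BT97C9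
import Cfsg.Agent.Helper66.BT97C10

/-!
# S0997 (Brauer–Tuan): the pieces, collected under one namespace

Proved by helper88 (A1-A5), helper68 (A6, A8), helper41 (A7), helper49 (A9), helper69 (A10-A12),
helper77 (C1), helper24 (C2, C3), helper37 (C4, C6), helper65 (C5), helper66 (C7-C10).
-/

set_option autoImplicit false

namespace Cfsg.Agent.Helper16.BT

open Cfsg Cfsg.Agent.Helper16 Cfsg.Agent.Helper16.DefOne Cfsg.Agent.Helper82.DefOne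
  Cfsg.Agent.Helper77.DefOne Cfsg.Agent.Helper16.Brauer43 Cfsg.Agent.Helper54.BT
open scoped ComplexConjugate

universe u

/-! ## pure arithmetic (Mathlib only) -/

/-- (A1) a degree `≡ ±1 (mod p)` below `p - 1` is `1` -/
theorem deg_eq_one_of_small (p d : ℕ) (ε : ℤ) (hp : p.Prime) (hε : ε = 1 ∨ ε = -1)
    (hmod : (d : ℤ) ≡ ε [ZMOD p]) (hd : 1 ≤ d) (hlt : d < p - 1) : d = 1 :=
  Cfsg.Agent.Helper88.BT97.deg_eq_one_of_small p d ε hp hε hmod hd hlt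

/-- (A2) the degree of an exceptional character below `p - 1` -/
theorem deg_Y_cases (p e f : ℕ) (δ : ℤ) (hp : p.Prime) (hδ : δ = 1 ∨ δ = -1) (he1 : 1 ≤ e)
    (hed : e ∣ p - 1) (hmod : (f : ℤ) ≡ δ * (e : ℤ) [ZMOD p]) (hf2 : 2 ≤ f) (hf : f < p - 1) :
    2 * e ≤ p - 1 ∧ ((δ = 1 ∧ f = e) ∨ (δ = -1 ∧ f + e = p)) :=
  Cfsg.Agent.Helper88.BT97.deg_Y_cases p e f δ hp hδ he1 hed hmod hf2 hf

/-- (A3) `g₀ = f` -/
theorem g0_eq (p f g₀ : ℕ) (hfg : f ∣ g₀) (hg1 : 1 ≤ g₀) (hg : g₀ < p - 1)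
    (h2 : p ≤ 2 * f + 1) : g₀ = f :=
  Cfsg.Agent.Helper88.BT97.g0_eq p f g₀ hfg hg1 hg h2

/-- (A4) case `δ = +1`: `q = 2` and `p + 1` is a power of two -/
theorem arith_I (p e q b : ℕ) (hp : p.Prime) (hq : q.Prime) (hpe : p = 2 * e + 1) (he : 2 ≤ e)
    (hmod : (e : ℤ) ≡ 1 [ZMOD q]) (hdvd : p + 1 ∣ e * q ^ b) :
    q = 2 ∧ ∃ c : ℕ, 3 ≤ c ∧ p + 1 = 2 ^ c :=
  Cfsg.Agent.Helper88.BT97.arith_I p e q b hp hq hpe he hmod hdvd

/-- (A5) case `δ = -1`: `q = 2` and `e` is a power of two -/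
theorem arith_minus_q (p e f q b s : ℕ) (hp : p.Prime) (hq : q.Prime) (hef : e + f = p)
    (hed : e ∣ p - 1) (he2 : 2 ≤ e) (hes : e * s = q ^ b * f)
    (hmod : -(f : ℤ) ≡ 1 [ZMOD q]) : q = 2 ∧ ∃ a : ℕ, 1 ≤ a ∧ e = 2 ^ a :=
  Cfsg.Agent.Helper88.BT97.arith_minus_q p e f q b s hp hq hef hed he2 hes hmod

/-- (A6a) a sum of even integers that is `2 (mod 4)` has a term that is `2 (mod 4)` -/
theorem exists_two_mod_four {ι : Type*} (S : Finset ι) (sd : ι → ℤ)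
    (hev : ∀ i ∈ S, (2 : ℤ) ∣ sd i) (hsum : ∑ i ∈ S, sd i ≡ 2 [ZMOD 4]) :
    ∃ i ∈ S, sd i ≡ 2 [ZMOD 4] :=
  Cfsg.Agent.Helper68.BT97.exists_two_mod_four S sd hev hsum

/-- (A6b) case `δ = -1`, `4 ∣ e`: a degree `2 (mod 4)` forces `t = 2` -/
theorem arith_minus_t2 (p e f b d : ℕ) (hp : p.Prime) (hef : e + f = p) (hed : e ∣ p - 1)
    (he4 : 4 ∣ e) (hd : d ∣ f * 2 ^ b) (hd2 : d % 4 = 2)
    (hmod : (d : ℤ) ≡ 1 [ZMOD p] ∨ (d : ℤ) ≡ -1 [ZMOD p]) : p = 2 * e + 1 :=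
  Cfsg.Agent.Helper68.BT97.arith_minus_t2 p e f b d hp hef hed he4 hd hd2 hmod

/-- (A7-I) the signed degrees of the members of `X`, case `p = 2^c - 1`, `|G| = 2^(cJ) e p` -/
theorem types_I (c J d : ℕ) (ε : ℤ) (hc : 3 ≤ c) (hJ : 2 ≤ J) (hε : ε = 1 ∨ ε = -1)
    (hd : d ∣ (2 ^ (c - 1) - 1) * 2 ^ (c * J))
    (hmod : (d : ℤ) ≡ ε [ZMOD ((2 ^ c - 1 : ℕ) : ℤ)])
    (hsq : d * d ≤ 2 ^ (c * J) * ((2 ^ (c - 1) - 1) * (2 ^ c - 1))) :
    ∃ j : ℕ, j < J ∧ (ε * (d : ℤ) = ((2 : ℤ) ^ c) ^ j ∨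
      ε * (d : ℤ) = ((2 : ℤ) ^ c) ^ j * (2 - (2 : ℤ) ^ c)) :=
  Cfsg.Agent.Helper41.BT97.types_I c J d ε hc hJ hε hd hmod hsq

/-- (A7-III) the signed degrees of the members of `X`, case `p = 2^m + 1`, `|G| = 2^(mJ) f p` -/
theorem types_III (m J d : ℕ) (ε : ℤ) (hm : 2 ≤ m) (hJ : 2 ≤ J) (hε : ε = 1 ∨ ε = -1)
    (hd : d ∣ (2 ^ (m - 1) + 1) * 2 ^ (m * J))
    (hmod : (d : ℤ) ≡ ε [ZMOD ((2 ^ m + 1 : ℕ) : ℤ)])
    (hsq : d * d ≤ 2 ^ (m * J) * ((2 ^ (m - 1) + 1) * (2 ^ m + 1))) :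
    ∃ j : ℕ, j < J ∧ (ε * (d : ℤ) = (-(2 : ℤ) ^ m) ^ j ∨
      ε * (d : ℤ) = (-(2 : ℤ) ^ m) ^ j * (2 - -(2 : ℤ) ^ m)) :=
  Cfsg.Agent.Helper41.BT97.types_III m J d ε hm hJ hε hd hmod hsq

/-- (A8-I) the order of `2` modulo `2^c - 1` -/
theorem dvd_of_two_pow_modEq_I (c b : ℕ) (hc : 2 ≤ c) (h : 2 ^ b ≡ 1 [MOD 2 ^ c - 1]) :
    c ∣ b :=
  Cfsg.Agent.Helper68.BT97.dvd_of_two_pow_modEq_I c b hc h

/-- (A8-III) the order of `2` modulo `2^m + 1` -/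
theorem dvd_of_two_pow_modEq_III (m x : ℕ) (hm : 1 ≤ m) (h : 2 ^ x ≡ 1 [MOD 2 ^ m + 1]) :
    2 * m ∣ x :=
  Cfsg.Agent.Helper68.BT97.dvd_of_two_pow_modEq_III m x hm h

/-- (A8-II) -/
theorem eq_of_dvd_two_pow_add_one (m b : ℕ) (hm : 1 ≤ m) (hb : b ≤ 2 * m)
    (h : 2 ^ m + 1 ∣ 2 ^ b + 1) : b = m :=
  Cfsg.Agent.Helper68.BT97.eq_of_dvd_two_pow_add_one m b hm hb h

/-- (A9) DIGIT: a sum of few signed degrees of types `β^j`, `β^j (2 - β)` (`j < J`) that is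
divisible by `T^J` (`β = ±T`) is empty -/
theorem digit_vanish {ι : Type*} (S : Finset ι) (sd : ι → ℤ) (T : ℕ) (β : ℤ)
    (hβ : β = (T : ℤ) ∨ β = -(T : ℤ)) (hT : 2 * S.card < T) (J : ℕ)
    (htype : ∀ i ∈ S, ∃ j : ℕ, j < J ∧ (sd i = β ^ j ∨ sd i = β ^ j * (2 - β)))
    (hdvd : (T : ℤ) ^ J ∣ ∑ i ∈ S, sd i) : S = ∅ :=
  Cfsg.Agent.Helper49.BT97.digit_vanish S sd T β hβ hT J htype hdvd

/-- (A10) the degree relation produces a member of type `β^j` -/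
theorem exists_a_type {ι : Type*} (S : Finset ι) (sd : ι → ℤ) (β : ℤ) (hβ : 2 < |β - 2|)
    (hsum : 2 * (1 + ∑ i ∈ S, sd i) = β - 2)
    (htype : ∀ i ∈ S, ∃ j : ℕ, sd i = β ^ j ∨ sd i = β ^ j * (2 - β)) :
    ∃ i ∈ S, ∃ j : ℕ, sd i = β ^ j :=
  Cfsg.Agent.Helper69.BT97.exists_a_type S sd β hβ hsum htype

/-- (A11) case `e = 2`: the exponent `b` is at most `2m` -/
theorem arith_II (m b k : ℕ) (w : ℤ) (hm : 2 ≤ m) (hk : k ≤ 2 ^ (m - 1))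
    (h : (2 : ℤ) ^ m + 2 * (k : ℤ) * ((2 : ℤ) ^ m - 1) = (2 : ℤ) ^ b * w) : b ≤ 2 * m :=
  Cfsg.Agent.Helper69.BT97.arith_II m b k w hm hk h

/-- (A12) the exceptional characters lie in the principal `2`-block -/
theorem k_eq_two (a b k : ℕ) (e' f A c w : ℤ) (he' : ¬ (2 : ℤ) ∣ e') (hf : ¬ (2 : ℤ) ∣ f)
    (hA : ¬ (2 : ℤ) ∣ A) (hc : c = 1 ∨ c = -1) (hb : a + 2 ≤ b) (hk : k ≤ 2)
    (h : 2 * ((2 : ℤ) ^ a * e') * A + c * ((2 : ℤ) ^ a * e') * (f * (k : ℤ)) = (2 : ℤ) ^ b * w) :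
    k = 2 :=
  Cfsg.Agent.Helper69.BT97.k_eq_two a b k e' f A c w he' hf hA hc hb hk h

/-! ## the engine data -/

variable {G : Type u} [Group G] [Fintype G] {p : ℕ} [Fact p.Prime]
  (P : Sylow p G) [Fintype (P : Subgroup G)] (D : L0Data P)

/-- (C1) `X ∪ Y` lies in the principal `p`-block -/
theorem XY_subset_principal (hP : Nat.card P = p) (hC : cen P = (P : Subgroup G))
    (Mp : Ideal AlgInt) (hMp : IsPModular p Mp) : D.X ∪ D.Y ⊆ principalBlock Mp G :=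
  Cfsg.Agent.Helper77.BT97.XY_subset_principal P D hP hC Mp hMp

/-- (C2) the nonprincipal members of `X` have degree divisible by `q` -/
theorem q_dvd_deg_X (hP : Nat.card P = p) (hC : cen P = (P : Subgroup G))
    (hperf : commutator G = ⊤) (q b g₀ : ℕ) (hq : q.Prime)
    (hes : (cen P).relIndex (nor P) * (nor P).index = q ^ b * g₀) (hg : g₀ < p - 1)
    (χ : IrrCharacter G) (hχ : χ ∈ D.X) (hne : χ ≠ Helper79.principalIrr G) :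
    q ∣ charDegree (χ : G → ℂ) :=
  Cfsg.Agent.Helper24.BT97.q_dvd_deg_X P D hP hC hperf q b g₀ hq hes hg χ hχ hne

/-- (C3) the principal character lies in `X` with sign `+1` -/
theorem principal_mem_X_of_dvd (hP : Nat.card P = p) (q : ℕ) (hq : 2 ≤ q)
    (hdiv : ∀ χ ∈ D.X, χ ≠ Helper79.principalIrr G → q ∣ charDegree (χ : G → ℂ)) :
    Helper79.principalIrr G ∈ D.X ∧ D.ε (Helper79.principalIrr G) = 1 :=
  Cfsg.Agent.Helper24.BT97.principal_mem_X_of_dvd P D hP q hq hdiv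

/-- (C4) the degree of the exceptional characters -/
theorem deg_Y_main [IsSimpleGroup G] (hP : Nat.card P = p) (hC : cen P = (P : Subgroup G))
    (hperf : commutator G = ⊤) (q b g₀ : ℕ) (hq : q.Prime) (hg1 : 1 ≤ g₀)
    (hes : (cen P).relIndex (nor P) * (nor P).index = q ^ b * g₀) (hg : g₀ < p - 1)
    (hone : Helper79.principalIrr G ∈ D.X ∧ D.ε (Helper79.principalIrr G) = 1)
    (hdiv : ∀ χ ∈ D.X, χ ≠ Helper79.principalIrr G → q ∣ charDegree (χ : G → ℂ))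
    (ψ : IrrCharacter G) (hψ : ψ ∈ D.Y) :
    2 * (cen P).relIndex (nor P) ≤ p - 1 ∧ g₀ = charDegree (ψ : G → ℂ) ∧
      2 ≤ charDegree (ψ : G → ℂ) ∧
      D.δ * (charDegree (ψ : G → ℂ) : ℤ) ≡ 1 [ZMOD q] ∧
      ((D.δ = 1 ∧ charDegree (ψ : G → ℂ) = (cen P).relIndex (nor P) ∧
          p = 2 * (cen P).relIndex (nor P) + 1) ∨
       (D.δ = -1 ∧ charDegree (ψ : G → ℂ) + (cen P).relIndex (nor P) = p)) :=
  Cfsg.Agent.Helper37.BT97.deg_Y_main P D hP hC hperf q b g₀ hq hg1 hes hg hone hdiv ψ hψ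

open Classical in
/-- (C5) the block sum, split over `X` and `Y` -/
theorem block_sum_split (hP : Nat.card P = p) (hC : cen P = (P : Subgroup G))
    (Mp : Ideal AlgInt) (hMp : IsPModular p Mp) (B : Set (IrrCharacter G)) (f : ℕ)
    (hY : ∀ ψ ∈ D.Y, charDegree (ψ : G → ℂ) = f) :
    ∑ᶠ χ ∈ principalBlock Mp G ∩ B, cW P D χ =
      ((p : ℤ) - 1) * ∑ᶠ χ ∈ D.X ∩ B, D.ε χ * (charDegree (χ : G → ℂ) : ℤ) +
      -D.δ * ((cen P).relIndex (nor P) : ℤ) * ((f : ℤ) * (Nat.card ↥(D.Y ∩ B) : ℤ)) :=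
  Cfsg.Agent.Helper65.BT97.block_sum_split P D hP hC Mp hMp B f hY

/-- (C6) the strong congruence for a `q`-block that avoids `Y` -/
theorem block_X_dvd (hP : Nat.card P = p) (hC : cen P = (P : Subgroup G)) (q : ℕ)
    [Fact q.Prime] (hpq : p ≠ q) (hno : ∀ g : G, orderOf g ≠ p * q) (b : ℕ)
    (hb : (Nat.card G).factorization q = b)
    (Mp Mq : Ideal AlgInt) (hMp : IsPModular p Mp) (hMq : IsPModular q Mq)
    (Bq : Set (IrrCharacter G)) (hBq : IsPBlock Mq Bq) (hYB : D.Y ∩ Bq = ∅) :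
    (q : ℤ) ^ b ∣ ∑ᶠ χ ∈ D.X ∩ Bq, D.ε χ * (charDegree (χ : G → ℂ) : ℤ) :=
  Cfsg.Agent.Helper37.BT97.block_X_dvd P D hP hC q hpq hno b hb Mp Mq hMp hMq Bq hBq hYB

/-- (C7) a block that meets the principal block contains the principal character -/
theorem principal_mem_blockOf (M : Ideal AlgInt) (hM : M.IsPrime) (χ ψ : IrrCharacter G)
    (h1 : ψ ∈ principalBlock M G) (h2 : ψ ∈ blockOf M (χ : G → ℂ)) :
    Helper79.principalIrr G ∈ blockOf M (χ : G → ℂ) :=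
  Cfsg.Agent.Helper66.BT97.principal_mem_blockOf M hM χ ψ h1 h2

/-- (C8) no element of order `p q` -/
theorem no_order_mul' (hP : Nat.card P = p) (hC : cen P = (P : Subgroup G)) (q : ℕ)
    (hq : q.Prime) (g : G) : orderOf g ≠ p * q :=
  Cfsg.Agent.Helper66.BT97.no_order_mul' P hP hC q hq g

/-- (C9) the number of Sylow `p`-subgroups is `1 (mod p)` -/
theorem index_nor_modEq (hP : Nat.card P = p) : (nor P).index ≡ 1 [MOD p] :=
  Cfsg.Agent.Helper66.BT97.index_nor_modEq P hP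

/-- (C10) a nonprincipal irreducible character of a simple group is faithful -/
theorem faithful_of_simple [IsSimpleGroup G] (ψ : IrrCharacter G)
    (hne : ψ ≠ Helper79.principalIrr G) (g : G) (hg : (ψ : G → ℂ) g = (ψ : G → ℂ) 1) :
    g = 1 :=
  Cfsg.Agent.Helper66.BT97.faithful_of_simple ψ hne g hg

end Cfsg.Agent.Helper16.BT
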