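import Cfsg.Agent.Helper16.BT.CaseIII
import Cfsg.Agent.Helper16.BT.FrontC

/-!
# S0997 (Brauer–Tuan): the order of `G` is less than `p^3`
-/

set_option autoImplicit false

namespace Cfsg.Agent.Helper16.BT

open Cfsg Cfsg.Agent.Helper16 Cfsg.Agent.Helper16.DefOne Cfsg.Agent.Helper82.DefOne
  Cfsg.Agent.Helper77.DefOne Cfsg.Agent.Helper16.Brauer43 Cfsg.Agent.Helper54.BT
open scoped ComplexConjugate

universe u

variable {G : Type u} [Group G] [Fintype G] {p : ℕ} [Fact p.Prime]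
  (P : Sylow p G) [Fintype (P : Subgroup G)]

/-- **Brauer–Tuan, numerical part** (with `C_G(P) = P`) -/
theorem card_lt_cube_of_cen [IsSimpleGroup G] (hperf : commutator G = ⊤) (hP : Nat.card P = p)
    (hC : cen P = (P : Subgroup G)) (q b g₀ : ℕ) (hq : q.Prime)
    (hcard : Nat.card G = p * q ^ b * g₀) (hg : g₀ < p - 1) :
    Nat.card G < p ^ 3 ∧ ∃ m : ℕ, p = 2 ^ m + 1 ∨ p = 2 ^ m - 1 := by
  classical
  have hp : p.Prime := Fact.out
  obtain ⟨D⟩ := exists_L0Data P hP hC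
  have hcm : Nat.card G = (nor P).index * ((cen P).relIndex (nor P) * p) := card_eq_mul P hP hC
  have hes : (cen P).relIndex (nor P) * (nor P).index = q ^ b * g₀ := by
    have h1 : p * ((cen P).relIndex (nor P) * (nor P).index) = p * (q ^ b * g₀) := by
      have h2 : p * (q ^ b * g₀) = Nat.card G := by rw [hcard]; ring
      rw [h2, hcm]; ring
    exact Nat.eq_of_mul_eq_mul_left hp.pos h1
  have hg1 : 1 ≤ g₀ := by
    rcases Nat.eq_zero_or_pos g₀ with h | h
    · rw [h, mul_zero] at hcard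
      have := Nat.card_pos (α := G)
      omega
    · exact h
  have hdiv := q_dvd_deg_X P D hP hC hperf q b g₀ hq hes hg
  have hone := principal_mem_X_of_dvd P D hP q hq.two_le hdiv
  obtain ⟨ψ₀, hψ₀⟩ := Helper47.B43.Y_nonempty47 P D hP
  obtain ⟨ht, hg0f, hf2, hmodq, hcases⟩ :=
    deg_Y_main P D hP hC hperf q b g₀ hq hg1 hes hg hone hdiv ψ₀ hψ₀
  have hY : ∀ ψ ∈ D.Y, charDegree (ψ : G → ℂ) = charDegree (ψ₀ : G → ℂ) :=
    fun ψ hψ => GL.deg_Y_eq P D ψ ψ₀ hψ hψ₀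
  rcases hcases with ⟨hδ, hfe, hpe⟩ | ⟨hδ, hfe⟩
  · -- `δ = +1`
    rw [hδ, one_mul, hfe] at hmodq
    rw [hg0f, hfe] at hes
    exact case_I P D hperf hP hC q b hq hes hone hdiv hδ (fun ψ hψ => (hY ψ hψ).trans hfe)
      hpe (by omega) hmodq
  · -- `δ = -1`
    rw [hg0f] at hes
    have hed : (cen P).relIndex (nor P) ∣ p - 1 := relIndex_cen_nor_dvd P hP
    have he2 : 2 ≤ (cen P).relIndex (nor P) := by omega
    have hmodq' : -((charDegree (ψ₀ : G → ℂ) : ℕ) : ℤ) ≡ 1 [ZMOD q] := by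
      rw [hδ] at hmodq
      simpa using hmodq
    obtain ⟨hq2, a, ha, hea⟩ := arith_minus_q p ((cen P).relIndex (nor P))
      (charDegree (ψ₀ : G → ℂ)) q b (nor P).index hp hq (by omega) hed he2 hes hmodq'
    subst hq2
    rcases Nat.lt_or_ge a 2 with ha2 | ha2
    · have ha1 : a = 1 := by omega
      rw [ha1, pow_one] at hea
      exact case_II P D hperf hP hC b _ hes hone hδ hY hfe hea ht
    · exact case_III P D hperf hP hC b _ a hes hone hdiv hδ hY hfe hea ha2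

/-- **Brauer–Tuan, numerical part** -/
theorem card_lt_cube [IsSimpleGroup G] (hperf : commutator G = ⊤) (hP : Nat.card P = p)
    (q b g₀ : ℕ) (hq : q.Prime) (hpq : p ≠ q)
    (hcard : Nat.card G = p * q ^ b * g₀) (hg : g₀ < p - 1) :
    Nat.card G < p ^ 3 ∧ ∃ m : ℕ, p = 2 ^ m + 1 ∨ p = 2 ^ m - 1 :=
  card_lt_cube_of_cen P hperf hP (cen_eq_of_card P hperf hP q b g₀ hq hpq hcard hg) q b g₀ hq
    hcard hg

end Cfsg.Agent.Helper16.BT
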